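import Mathlib
import Groth.Prelude.Def_TorSh
import Groth.Agent.FlatLocus.ModInjFlat
import Groth.Agent.QcInjLib.Scheme

/-!
# Torsion-free modules of rank one and rational functions
-/

set_option autoImplicit false
universe u

open CategoryTheory AlgebraicGeometry Opposite

noncomputable section

namespace Groth.Agent.TorRankLib

open FlatLocus

variable {X : Scheme.{u}}

theorem germ_smul' (M : X.Modules) {U : X.Opens} (x : X) (hx : x ∈ U) (r : Γ(X, U)) (m : Γ(M, U)) :
    M.presheaf.germ U x hx (r • m) = X.presheaf.germ U x hx r • M.presheaf.germ U x hx m :=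
  PresheafOfModules.germ_smul (M := M.val) x U hx r m

variable [IsIntegral X]

theorem generic_mem {U : X.Opens} {x : X} (hx : x ∈ U) : genericPoint X ∈ U :=
  ((genericPoint_spec X).mem_open_set_iff U.2).2 ⟨x, trivial, hx⟩

abbrev K (X : Scheme.{u}) [IsIntegral X] := X.presheaf.stalk (genericPoint X)

abbrev j (X : Scheme.{u}) [IsIntegral X] : Spec (K X) ⟶ X := X.fromSpecStalk (genericPoint X)

/-- A value of the function field as a section over the preimage of an open. -/
def val (X : Scheme.{u}) [IsIntegral X] (U : X.Opens) : K X →+* Γ(Spec (K X), j X ⁻¹ᵁ U) :=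
  ((Scheme.ΓSpecIso (K X)).inv ≫ (Spec (K X)).presheaf.map (homOfLE le_top).op).hom

theorem preimage_eq_top {U : X.Opens} (hU : genericPoint X ∈ U) : j X ⁻¹ᵁ U = ⊤ := by
  refine TopologicalSpace.Opens.ext (Set.eq_univ_of_forall fun z => ?_)
  show j X z ∈ U
  letI := (Field.toIsField X.functionField).toField
  have : z = IsLocalRing.closedPoint (K X) := Subsingleton.elim (α := PrimeSpectrum X.functionField) z _
  rw [this, Scheme.fromSpecStalk_closedPoint]
  exact hU

theorem val_bijective {U : X.Opens} (hU : genericPoint X ∈ U) : Function.Bijective (val X U) := by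
  haveI : IsIso (homOfLE (le_top : j X ⁻¹ᵁ U ≤ ⊤)) := ⟨homOfLE (preimage_eq_top hU).ge, rfl, rfl⟩
  exact ConcreteCategory.bijective_of_isIso ((Scheme.ΓSpecIso (K X)).inv ≫ (Spec (K X)).presheaf.map (homOfLE le_top).op)

theorem app_eq {U : X.Opens} (hU : genericPoint X ∈ U) (r : Γ(X, U)) :
    (j X).app U r = val X U (X.presheaf.germ U (genericPoint X) hU r) := by
  rw [Scheme.fromSpecStalk_app hU]
  rfl

theorem val_res {U V : X.Opens} (hVU : V ≤ U) (c : K X) :
    (Spec (K X)).presheaf.map (homOfLE ((TopologicalSpace.Opens.map (j X).base).map (homOfLE hVU)).le).op (val X U c) = val X V c := by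
  show (Spec (K X)).presheaf.map _ ((Spec (K X)).presheaf.map _ ((Scheme.ΓSpecIso (K X)).inv c)) =
    (Spec (K X)).presheaf.map _ ((Scheme.ΓSpecIso (K X)).inv c)
  rw [← ConcreteCategory.comp_apply, ← Functor.map_comp]
  rfl

theorem subsingleton_sections {U : X.Opens} (hU : genericPoint X ∉ U) : Subsingleton Γ(Spec (K X), j X ⁻¹ᵁ U) := by
  have h : j X ⁻¹ᵁ U = ⊥ := eq_bot_iff.2 fun z hz => hU (generic_mem (x := j X z) hz)
  rw [h]
  exact CommRingCat.subsingleton_of_isTerminal ((Spec (K X)).sheaf.isTerminalOfEmpty)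

/-- The morphism to rational functions given by a functional on the generic stalk. -/
theorem exists_toRat (F : X.Modules) (φ : F.presheaf.stalk (genericPoint X) →ₗ[K X] K X) :
    ∃ i : F ⟶ (Scheme.Modules.pushforward (j X)).obj (Coh.structureModule (Spec (K X))),
      ∀ (U : X.Opens) (hU : genericPoint X ∈ U) (s : Γ(F, U)),
        (i.app U s : Γ(Spec (K X), j X ⁻¹ᵁ U)) = val X U (φ (F.presheaf.germ U (genericPoint X) hU s)) := by
  classical
  let f : ∀ U : X.Opens, Γ(F, U) →+ Γ(Spec (K X), j X ⁻¹ᵁ U) := fun U =>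
    if hU : genericPoint X ∈ U then (val X U).toAddMonoidHom.comp (φ.toAddMonoidHom.comp (F.presheaf.germ U (genericPoint X) hU).hom)
    else 0
  have hf : ∀ (U : X.Opens) (hU : genericPoint X ∈ U) (s : Γ(F, U)), f U s = val X U (φ (F.presheaf.germ U (genericPoint X) hU s)) :=
    fun U hU s => by
      simp only [f, dif_pos hU]
      rfl
  refine ⟨⟨PresheafOfModules.homMk
    { app := fun U => AddCommGrpCat.ofHom (f U.unop)
      naturality := fun U V a => by
        refine AddCommGrpCat.hom_ext (AddMonoidHom.ext fun (m : Γ(F, U.unop)) => ?_)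
        show f V.unop (F.presheaf.map a.unop.op m) =
          (Spec (K X)).presheaf.map ((TopologicalSpace.Opens.map (j X).base).map a.unop).op (f U.unop m)
        by_cases hV : genericPoint X ∈ V.unop
        · rw [hf _ hV, hf _ (a.unop.le hV), TopCat.Presheaf.germ_res_apply]
          exact (val_res a.unop.le _).symm
        · exact (subsingleton_sections hV).elim _ _ }
    fun U (r : Γ(X, U.unop)) (m : Γ(F, U.unop)) => by
      show f U.unop (r • m) = (j X).app U.unop r * f U.unop m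
      by_cases hU : genericPoint X ∈ U.unop
      · rw [hf _ hU, hf _ hU, app_eq hU, germ_smul', map_smul, smul_eq_mul, map_mul]
      · exact (subsingleton_sections hU).elim _ _⟩, fun U hU s => hf U hU s⟩

/-- Torsion-free modules inject into their generic stalk. -/
theorem germ_eq_zero_of_generic (F : X.Modules) [Coh.IsQCoh F] (hF : TorSh.IsTorsionFree F) {U : X.Opens}
    (hU : genericPoint X ∈ U) (s : Γ(F, U)) (hs : F.presheaf.germ U (genericPoint X) hU s = 0) : s = 0 := by
  refine TopCat.Presheaf.section_ext ⟨F.presheaf, F.isSheaf⟩ U _ _ fun x hx => ?_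
  refine Eq.trans ?_ (map_zero (F.presheaf.germ U x hx).hom).symm
  obtain ⟨W, hW, hxW, hWU⟩ := exists_isAffineOpen_mem_and_subset (X := X) (x := x) (U := U) hx
  haveI : Nonempty W := ⟨⟨x, hxW⟩⟩
  have hη : genericPoint X ∈ W := generic_mem hxW
  let m : Γ(F, W) := F.presheaf.map (homOfLE hWU).op s
  have hm : F.presheaf.germ W (genericPoint X) hη m = 0 := by
    show F.presheaf.germ W (genericPoint X) hη (F.presheaf.map (homOfLE hWU).op s) = 0
    exact (TopCat.Presheaf.germ_res_apply F.presheaf (homOfLE hWU) (genericPoint X) hη s).trans hs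
  show F.presheaf.germ U x hx s = 0
  rw [show F.presheaf.germ U x hx s = F.presheaf.germ W x hxW m from (TopCat.Presheaf.germ_res_apply F.presheaf (homOfLE hWU) x hxW s).symm]
  letI := Module.compHom (F.presheaf.stalk (genericPoint X)) (X.presheaf.germ W (genericPoint X) hη).hom
  haveI := isLocalizedModule_germL F hW (genericPoint X) hη
  obtain ⟨t, ht⟩ := (IsLocalizedModule.eq_zero_iff (hW.primeIdealOf ⟨genericPoint X, hη⟩).asIdeal.primeCompl
    (germL F W (genericPoint X) hη)).1 hm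
  have ht0 : X.presheaf.germ W x hxW t.1 ≠ 0 := fun h0 => t.2 (by
    rw [germ_injective_of_isIntegral X x hxW (h0.trans (map_zero _).symm)]
    exact Ideal.zero_mem _)
  have h1 := congrArg (F.presheaf.germ W x hxW) (show t.1 • m = 0 from ht)
  rw [germ_smul', map_zero] at h1
  exact (hF x).isSMulRegular (IsRegular.of_ne_zero ht0) (h1.trans (smul_zero _).symm)

theorem exists_mono_into_rat (F : X.Modules) [Coh.IsQCoh F] (hF : TorSh.IsTorsionFree F)
    (h1 : Module.finrank (K X) (F.presheaf.stalk (genericPoint X)) = 1) :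
    ∃ i : F ⟶ (Scheme.Modules.pushforward (j X)).obj (Coh.structureModule (Spec (K X))), Mono i := by
  letI : Field (K X) := (inferInstance : Field X.functionField)
  obtain ⟨e⟩ := Module.nonempty_linearEquiv_of_finrank_eq_one h1
  obtain ⟨i, hi⟩ := exists_toRat F e.symm.toLinearMap
  refine ⟨i, ⟨fun {G} a b hab => ?_⟩⟩
  refine Scheme.Modules.hom_ext _ _ fun U => AddCommGrpCat.hom_ext (AddMonoidHom.ext fun (s : Γ(G, U)) => ?_)
  have hs : i.app U (a.app U s) = i.app U (b.app U s) :=
    congrArg (fun φ => φ.app U s) hab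
  by_cases hU : genericPoint X ∈ U
  · rw [← sub_eq_zero] at hs ⊢
    rw [← map_sub] at hs
    refine germ_eq_zero_of_generic F hF hU _ ?_
    have := (hi U hU _).symm.trans hs
    exact e.symm.injective ((val_bijective hU).1 (this.trans (map_zero _).symm) |>.trans (map_zero _).symm)
  · refine TopCat.Presheaf.section_ext ⟨F.presheaf, F.isSheaf⟩ U _ _ fun x hx => absurd (generic_mem hx) hU

theorem isTorsionFree_and_finrank (G : X.Modules) (i : G ⟶ (Scheme.Modules.pushforward (j X)).obj (Coh.structureModule (Spec (K X)))) [Mono i]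
    (hG : ¬ Limits.IsZero G) :
    TorSh.IsTorsionFree G ∧ Module.finrank (K X) (G.presheaf.stalk (genericPoint X)) = 1 := by
  letI : Field (K X) := (inferInstance : Field X.functionField)
  have hinj : ∀ (U : X.Opens) (s : Γ(G, U)), (show Γ(Spec (K X), j X ⁻¹ᵁ U) from i.app U s) = 0 → s = 0 := by
    intro U s hs
    have h := QcInjLib.app_injective i U
    exact h (hs.trans (map_zero (i.app U).hom).symm)
  have hsm : ∀ (U : X.Opens) (hU : genericPoint X ∈ U) (t : Γ(X, U)) (s : Γ(G, U)),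
      (show Γ(Spec (K X), j X ⁻¹ᵁ U) from i.app U (t • s)) = val X U (X.presheaf.germ U (genericPoint X) hU t) * (show Γ(Spec (K X), j X ⁻¹ᵁ U) from i.app U s) := by
    intro U hU t s
    rw [← app_eq hU]
    exact Scheme.Modules.Hom.app_smul i t s
  have hres : ∀ {U V : X.Opens} (hVU : V ≤ U) (s : Γ(G, U)), (show Γ(Spec (K X), j X ⁻¹ᵁ V) from i.app V (G.presheaf.map (homOfLE hVU).op s)) =
      (Spec (K X)).presheaf.map (homOfLE ((TopologicalSpace.Opens.map (j X).base).map (homOfLE hVU)).le).op (show Γ(Spec (K X), j X ⁻¹ᵁ U) from i.app U s) := by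
    intro U V hVU s
    exact NatTrans.naturality_apply i.mapPresheaf (homOfLE hVU).op s
  refine ⟨fun x => ⟨fun r hr => (injective_iff_map_eq_zero (DistribSMul.toAddMonoidHom _ r)).2 fun m hm => ?_⟩, ?_⟩
  · obtain ⟨U, hxU, s, rfl⟩ := TopCat.Presheaf.exists_germ_eq G.presheaf m
    obtain ⟨U', hxU', t, rfl⟩ := TopCat.Presheaf.exists_germ_eq X.presheaf r
    have hne := hr.ne_zero
    change X.presheaf.germ U' x hxU' t • G.presheaf.germ U x hxU s = 0 at hm
    rw [← TopCat.Presheaf.germ_res_apply X.presheaf (homOfLE (inf_le_right : U ⊓ U' ≤ U')) x ⟨hxU, hxU'⟩ t] at hm hne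
    rw [← TopCat.Presheaf.germ_res_apply G.presheaf (homOfLE (inf_le_left : U ⊓ U' ≤ U)) x ⟨hxU, hxU'⟩ s] at hm ⊢
    rw [← germ_smul', ← map_zero (G.presheaf.germ (U ⊓ U') x ⟨hxU, hxU'⟩).hom] at hm
    obtain ⟨V, hxV, a, b, hV⟩ := TopCat.Presheaf.germ_eq G.presheaf x _ _ _ _ hm
    rw [← TopCat.Presheaf.germ_res_apply G.presheaf a x hxV]
    rw [← TopCat.Presheaf.germ_res_apply X.presheaf a x hxV] at hne
    rw [map_zero, G.map_smul] at hV
    generalize X.presheaf.map a.op _ = t' at hV hne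
    generalize G.presheaf.map a.op _ = s' at hV ⊢
    suffices s' = 0 by rw [this, map_zero]
    refine hinj V s' ?_
    have h := hsm V (generic_mem hxV) t' s'
    rw [hV] at h
    obtain ⟨c, hc⟩ := (val_bijective (generic_mem hxV)).2 (show Γ(Spec (K X), j X ⁻¹ᵁ V) from i.app V s')
    rw [← hc, ← map_mul] at h
    have h0 : X.presheaf.germ V (genericPoint X) (generic_mem hxV) t' * c = 0 :=
      (val_bijective (generic_mem hxV)).1 (h.symm.trans ((map_zero (i.app V).hom).trans (map_zero _).symm))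
    rcases mul_eq_zero.1 h0 with h' | h'
    · exact absurd (by rw [germ_injective_of_isIntegral X (genericPoint X) (generic_mem hxV) (h'.trans (map_zero _).symm), map_zero]) hne
    · rw [← hc, h', map_zero]
  · obtain ⟨U, s, hs⟩ : ∃ (U : X.Opens) (s : Γ(G, U)), s ≠ 0 := by
      by_contra hc
      push_neg at hc
      exact hG ((Limits.IsZero.iff_id_eq_zero G).2 (Scheme.Modules.hom_ext _ _ fun U => AddCommGrpCat.hom_ext (AddMonoidHom.ext fun s => (hc U s).trans (hc U _).symm)))
    have hU : genericPoint X ∈ U := by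
      by_contra hU
      exact hs (TopCat.Presheaf.section_ext ⟨G.presheaf, G.isSheaf⟩ U _ _ fun x hx => absurd (generic_mem hx) hU)
    have hgne : G.presheaf.germ U (genericPoint X) hU s ≠ 0 := by
      intro h0
      rw [← map_zero (G.presheaf.germ U (genericPoint X) hU).hom] at h0
      obtain ⟨V, hV, a, b, hab⟩ := TopCat.Presheaf.germ_eq G.presheaf _ _ _ _ _ h0
      rw [map_zero] at hab
      refine hs (hinj U s ?_)
      obtain ⟨c, hc⟩ := (val_bijective hU).2 (show Γ(Spec (K X), j X ⁻¹ᵁ U) from i.app U s)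
      have h := hres a.le s
      rw [show G.presheaf.map (homOfLE a.le).op s = 0 from hab, ← hc, val_res a.le] at h
      rw [← hc, show c = 0 from (val_bijective hV).1 (h.symm.trans ((map_zero (i.app V).hom).trans (map_zero _).symm)), map_zero]
    refine finrank_eq_one _ hgne fun w => ?_
    obtain ⟨U₁, hU₁, w, rfl⟩ := TopCat.Presheaf.exists_germ_eq G.presheaf w
    have hV : genericPoint X ∈ U ⊓ U₁ := ⟨hU, hU₁⟩
    let s₁ := G.presheaf.map (homOfLE (inf_le_left : U ⊓ U₁ ≤ U)).op s
    let w₁ := G.presheaf.map (homOfLE (inf_le_right : U ⊓ U₁ ≤ U₁)).op w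
    obtain ⟨a, ha⟩ := (val_bijective hV).2 (show Γ(Spec (K X), j X ⁻¹ᵁ (U ⊓ U₁)) from i.app _ s₁)
    obtain ⟨b, hb⟩ := (val_bijective hV).2 (show Γ(Spec (K X), j X ⁻¹ᵁ (U ⊓ U₁)) from i.app _ w₁)
    have ha0 : a ≠ 0 := fun h => hgne (by
      rw [← TopCat.Presheaf.germ_res_apply G.presheaf (homOfLE (inf_le_left : U ⊓ U₁ ≤ U)) _ hV s]
      show G.presheaf.germ _ _ hV s₁ = 0
      rw [hinj _ s₁ (ha.symm.trans (by rw [h, map_zero])), map_zero])
    refine ⟨b * a⁻¹, ?_⟩
    obtain ⟨U₂, hU₂, t, ht⟩ := TopCat.Presheaf.exists_germ_eq X.presheaf (b * a⁻¹ : K X)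
    have hV₂ : genericPoint X ∈ U ⊓ U₁ ⊓ U₂ := ⟨hV, hU₂⟩
    let t₂ := X.presheaf.map (homOfLE (inf_le_right : U ⊓ U₁ ⊓ U₂ ≤ U₂)).op t
    let s₂ := G.presheaf.map (homOfLE (inf_le_left : U ⊓ U₁ ⊓ U₂ ≤ U ⊓ U₁)).op s₁
    let w₂ := G.presheaf.map (homOfLE (inf_le_left : U ⊓ U₁ ⊓ U₂ ≤ U ⊓ U₁)).op w₁
    have key : t₂ • s₂ = w₂ := by
      refine sub_eq_zero.1 (hinj _ _ ?_)
      show (show Γ(Spec (K X), j X ⁻¹ᵁ (U ⊓ U₁ ⊓ U₂)) from i.app _ (t₂ • s₂ - w₂)) = 0
      refine (map_sub (i.app _).hom _ _).trans (sub_eq_zero.2 ?_)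
      refine (hsm _ hV₂ t₂ s₂).trans ?_
      refine Eq.trans ?_ (hres (inf_le_left : U ⊓ U₁ ⊓ U₂ ≤ U ⊓ U₁) w₁).symm
      rw [hres (inf_le_left : U ⊓ U₁ ⊓ U₂ ≤ U ⊓ U₁) s₁, ← ha, ← hb, val_res (inf_le_left : U ⊓ U₁ ⊓ U₂ ≤ U ⊓ U₁), val_res (inf_le_left : U ⊓ U₁ ⊓ U₂ ≤ U ⊓ U₁), TopCat.Presheaf.germ_res_apply, ht, ← map_mul,
        inv_mul_cancel_right₀ ha0]
    have h := congrArg (G.presheaf.germ _ (genericPoint X) hV₂) key
    rw [germ_smul'] at h
    simp only [t₂, s₂, w₂, s₁, w₁, TopCat.Presheaf.germ_res_apply] at h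
    rw [ht] at h
    exact h

end Groth.Agent.TorRankLib
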